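import Mathlib

/-!
# Sylow conjugacy inside a subgroup, in terms of orders, and a conjugacy lemma for involutions
-/

set_option autoImplicit false
set_option linter.unusedSectionVars false

namespace Cfsg.Agent.Lib.H4.Wagner

variable {G : Type*} [Group G] [Finite G] {p : ℕ} [Fact p.Prime]

/-- two subgroups of `K` of order the full `p`-part of `|K|` are conjugate in `K` -/
theorem sylow_conj (K P Q : Subgroup G) (hP : P ≤ K) (hQ : Q ≤ K)
    (hcP : Nat.card P = p ^ (Nat.card K).factorization p)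
    (hcQ : Nat.card Q = p ^ (Nat.card K).factorization p) :
    ∃ k ∈ K, ∀ x : G, x ∈ Q ↔ k * x * k⁻¹ ∈ P := by
  have hcP' : Nat.card (P.subgroupOf K) = p ^ (Nat.card K).factorization p := by
    rw [Nat.card_congr (Subgroup.subgroupOfEquivOfLe hP).toEquiv, hcP]
  have hcQ' : Nat.card (Q.subgroupOf K) = p ^ (Nat.card K).factorization p := by
    rw [Nat.card_congr (Subgroup.subgroupOfEquivOfLe hQ).toEquiv, hcQ]
  obtain ⟨k, hk⟩ := MulAction.exists_smul_eq K (Sylow.ofCard (P.subgroupOf K) hcP')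
    (Sylow.ofCard (Q.subgroupOf K) hcQ')
  refine ⟨k⁻¹, K.inv_mem k.2, fun x => ?_⟩
  constructor
  · intro hx
    have hxK : x ∈ K := hQ hx
    have h1 : (⟨x, hxK⟩ : K) ∈ ((Sylow.ofCard (Q.subgroupOf K) hcQ' : Sylow p K) : Subgroup K) := by
      rw [Sylow.coe_ofCard]
      exact Subgroup.mem_subgroupOf.2 hx
    rw [← hk, Sylow.coe_subgroup_smul, Subgroup.mem_pointwise_smul_iff_inv_smul_mem,
      Sylow.coe_ofCard, Subgroup.mem_subgroupOf] at h1
    simpa [MulAut.smul_def] using h1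
  · intro hx
    have hxK : x ∈ K := by
      have h1 := hP hx
      have h2 : x = k * ((k : G)⁻¹ * x * ((k : G)⁻¹)⁻¹) * (k : G)⁻¹ := by group
      rw [h2]
      exact K.mul_mem (K.mul_mem k.2 h1) (K.inv_mem k.2)
    have h1 : (⟨x, hxK⟩ : K) ∈ ((Sylow.ofCard (Q.subgroupOf K) hcQ' : Sylow p K) : Subgroup K) := by
      rw [← hk, Sylow.coe_subgroup_smul, Subgroup.mem_pointwise_smul_iff_inv_smul_mem,
        Sylow.coe_ofCard, Subgroup.mem_subgroupOf]
      simpa [MulAut.smul_def] using hx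
    rw [Sylow.coe_ofCard] at h1
    exact Subgroup.mem_subgroupOf.1 h1

/-- a subgroup of `K` of order the full `p`-part of `|K|` exists, containing a given
`p`-element -/
theorem exists_sylow_mem (K : Subgroup G) {x : G} (hxK : x ∈ K) {j : ℕ} (hx : x ^ p ^ j = 1) :
    ∃ P : Subgroup G, P ≤ K ∧ x ∈ P ∧ Nat.card P = p ^ (Nat.card K).factorization p := by
  have hpg : IsPGroup p (Subgroup.zpowers (⟨x, hxK⟩ : K)) := by
    rw [IsPGroup.iff_orderOf]
    rintro ⟨y, hy⟩
    obtain ⟨i, rfl⟩ := Subgroup.mem_zpowers_iff.1 hy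
    have h1 : orderOf ((⟨x, hxK⟩ : K) ^ i) ∣ p ^ j := by
      apply orderOf_dvd_of_pow_eq_one
      rw [← zpow_natCast, ← zpow_mul, mul_comm, zpow_mul, zpow_natCast]
      have : (⟨x, hxK⟩ : K) ^ p ^ j = 1 := Subtype.ext (by simpa using hx)
      rw [this, one_zpow]
    obtain ⟨i', -, hi'⟩ := (Nat.dvd_prime_pow (Fact.out : p.Prime)).1 h1
    refine ⟨i', ?_⟩
    rw [Subgroup.orderOf_mk]
    exact hi'
  obtain ⟨S, hS⟩ := hpg.exists_le_sylow
  refine ⟨(S : Subgroup K).map K.subtype, ?_, ?_, ?_⟩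
  · rintro _ ⟨y, -, rfl⟩
    exact y.2
  · exact ⟨⟨x, hxK⟩, hS (Subgroup.mem_zpowers _), rfl⟩
  · rw [Nat.card_congr ((S : Subgroup K).equivMapOfInjective K.subtype
      (Subgroup.subtype_injective K)).symm.toEquiv]
    exact S.card_eq_multiplicity

/-- the conjugacy of two involutions whose product has odd order -/
theorem invol_conj {Pg : Type*} [Group Pg] {s s' : Pg} (hs : s * s = 1) (hs' : s' * s' = 1) {v : ℕ}
    (hk : (s * s') ^ (2 * v + 1) = 1) :
    s' = ((s * s') ^ (v + 1))⁻¹ * s * (s * s') ^ (v + 1) := by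
  have hsinv : s⁻¹ = s := inv_eq_of_mul_eq_one_left hs
  have hs'inv : s'⁻¹ = s' := inv_eq_of_mul_eq_one_left hs'
  -- `s k s = k⁻¹`
  have h1 : s * (s * s') * s = (s * s')⁻¹ := by
    rw [mul_inv_rev, hsinv, hs'inv, ← mul_assoc, hs, one_mul]
  have h2 : ∀ n : ℕ, s * (s * s') ^ n * s = ((s * s') ^ n)⁻¹ := by
    intro n
    have : s * (s * s') ^ n * s = (s * (s * s') * s) ^ n := by
      have := conj_pow (a := s) (b := s * s') (i := n)
      rw [hsinv] at this
      exact this.symm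
    rw [this, h1, inv_pow]
  -- `w⁻¹ s w = s w²`
  have h3 : ((s * s') ^ (v + 1))⁻¹ * s = s * (s * s') ^ (v + 1) := by
    rw [← h2 (v + 1), mul_assoc, mul_assoc, hs, mul_one]
  rw [h3, mul_assoc, ← pow_add]
  have h4 : v + 1 + (v + 1) = (2 * v + 1) + 1 := by ring
  rw [h4, pow_succ, hk, one_mul, ← mul_assoc, hs, one_mul]

end Cfsg.Agent.Lib.H4.Wagner
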