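import Mathlib
import Cfsg.Agent.Lib.H4.Wagner.Sylow

/-!
# Wagner's theorem: the case where the `2`-elements of the two point stabilizer act trivially
-/

set_option autoImplicit false
set_option linter.unusedSectionVars false

namespace Cfsg.Agent.Lib.H4.Wagner

open MulAction

universe u v

variable {G : Type v} [Group G] {Ω : Type u} [MulAction G Ω]

/-- triple transitivity of a subgroup, elementwise -/
def T3 (N : Subgroup G) (Ω : Type u) [MulAction G Ω] : Prop :=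
  ∀ a b c a' b' c' : Ω, a ≠ b → b ≠ c → a ≠ c → a' ≠ b' → b' ≠ c' → a' ≠ c' →
    ∃ g ∈ N, g • a = a' ∧ g • b = b' ∧ g • c = c'

/-- double transitivity of a subgroup, elementwise -/
def T2 (N : Subgroup G) (Ω : Type u) [MulAction G Ω] : Prop :=
  ∀ a b a' b' : Ω, a ≠ b → a' ≠ b' → ∃ g ∈ N, g • a = a' ∧ g • b = b'

/-- the two point stabilizer in a subgroup -/
def S2 (N : Subgroup G) (a b : Ω) : Subgroup G := N ⊓ (stabilizer G a ⊓ stabilizer G b)

theorem mem_S2 {N : Subgroup G} {a b : Ω} {x : G} :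
    x ∈ S2 N a b ↔ x ∈ N ∧ x • a = a ∧ x • b = b := by
  rw [S2, Subgroup.mem_inf, Subgroup.mem_inf, mem_stabilizer_iff, mem_stabilizer_iff]

theorem isPGroup_zpowers {p : ℕ} [Fact p.Prime] {x : G} {j : ℕ} (hx : x ^ p ^ j = 1) :
    IsPGroup p (Subgroup.zpowers x) := by
  rw [IsPGroup.iff_orderOf]
  rintro ⟨y, hy⟩
  obtain ⟨i, rfl⟩ := Subgroup.mem_zpowers_iff.1 hy
  have h1 : orderOf (x ^ i) ∣ p ^ j := by
    apply orderOf_dvd_of_pow_eq_one
    rw [← zpow_natCast, ← zpow_mul, mul_comm, zpow_mul, zpow_natCast, hx, one_zpow]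
  obtain ⟨i', -, hi'⟩ := (Nat.dvd_prime_pow (Fact.out : p.Prime)).1 h1
  refine ⟨i', ?_⟩
  rw [Subgroup.orderOf_mk]
  exact hi'

theorem pow_swap {t : G} {a b : Ω} (hta : t • a = b) (htb : t • b = a) (m : ℕ) :
    (t ^ (2 * m + 1)) • a = b ∧ (t ^ (2 * m + 1)) • b = a := by
  induction m with
  | zero => simpa using ⟨hta, htb⟩
  | succ m ih =>
    have : 2 * (m + 1) + 1 = (2 * m + 1) + 2 := by ring
    rw [this, pow_add, pow_two, mul_smul, mul_smul, mul_smul, mul_smul, hta, htb, hta]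
    exact ih

variable [Finite G] [Fintype Ω]

/-- Case A of Wagner's theorem -/
theorem caseA (N : Subgroup G) [hNn : N.Normal] (hodd : Odd (Fintype.card Ω))
    (hG3 : T3 (⊤ : Subgroup G) Ω) (hN2 : T2 N Ω) {a b : Ω} (hab : a ≠ b)
    (hA : ∀ x ∈ S2 N a b, (∃ j : ℕ, x ^ 2 ^ j = 1) → ∀ z : Ω, x • z = z)
    {y y' : Ω} (hya : y ≠ a) (hyb : y ≠ b) (hy'a : y' ≠ a) (hy'b : y' ≠ b) :
    ∃ k ∈ S2 N a b, k • y = y' := by
  classical
  haveI : Fact (Nat.Prime 2) := ⟨Nat.prime_two⟩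
  -- `2`-elements of two point stabilizers act trivially
  have A1 : ∀ z z' : Ω, z ≠ z' → ∀ x ∈ N, x • z = z → x • z' = z' → (∃ j : ℕ, x ^ 2 ^ j = 1) →
      ∀ w : Ω, x • w = w := by
    intro z z' hzz x hxN hxz hxz' hx2 w
    obtain ⟨g, -, hgz, hgz'⟩ := hN2 z z' a b hzz hab
    have hmem : g * x * g⁻¹ ∈ S2 N a b := by
      rw [mem_S2]
      refine ⟨hNn.conj_mem x hxN g, ?_, ?_⟩
      · rw [mul_smul, mul_smul, ← hgz, inv_smul_smul, hxz]
      · rw [mul_smul, mul_smul, ← hgz', inv_smul_smul, hxz']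
    obtain ⟨j, hj⟩ := hx2
    have h2 : (g * x * g⁻¹) ^ 2 ^ j = 1 := by
      rw [conj_pow, hj, mul_one, mul_inv_cancel]
    have h3 := hA _ hmem ⟨j, h2⟩ (g • w)
    rw [mul_smul, mul_smul, inv_smul_smul] at h3
    exact smul_left_cancel g h3
  -- an element swapping `a` and `b`
  obtain ⟨t, htN, hta, htb⟩ := hN2 a b b a hab (Ne.symm hab)
  obtain ⟨s, u, hu, hsu⟩ := Nat.exists_eq_two_pow_mul_odd (orderOf_pos t).ne'
  obtain ⟨m, hm⟩ := hu
  have ht'N : t ^ u ∈ N := N.pow_mem htN u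
  have ht'swap := pow_swap hta htb m
  rw [← hm] at ht'swap
  have ht'2 : (t ^ u) ^ 2 ^ s = 1 := by
    rw [← pow_mul, mul_comm, ← hsu]
    exact pow_orderOf_eq_one t
  -- a fixed point of `t ^ u`
  have hfix : ∃ c₀ : Ω, (t ^ u) • c₀ = c₀ := by
    have hpg := isPGroup_zpowers (p := 2) ht'2
    have hnd : ¬ 2 ∣ Nat.card Ω := by
      rw [Nat.card_eq_fintype_card]
      intro h
      rw [← even_iff_two_dvd] at h
      exact (Nat.not_even_iff_odd.2 hodd) h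
    obtain ⟨c₀, hc₀⟩ := hpg.nonempty_fixed_point_of_prime_not_dvd_card Ω hnd
    refine ⟨c₀, ?_⟩
    exact hc₀ ⟨t ^ u, Subgroup.mem_zpowers _⟩
  obtain ⟨c₀, hc₀⟩ := hfix
  have hc₀a : c₀ ≠ a := by
    rintro rfl
    rw [ht'swap.1] at hc₀
    exact hab hc₀.symm
  have hc₀b : c₀ ≠ b := by
    rintro rfl
    rw [ht'swap.2] at hc₀
    exact hab hc₀
  -- for every point outside `a, b`, a `2`-element swapping `a, b` and fixing it
  have A4 : ∀ z : Ω, z ≠ a → z ≠ b → ∃ τ ∈ N, τ • a = b ∧ τ • b = a ∧ τ • z = z ∧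
      τ ^ 2 ^ s = 1 := by
    intro z hza hzb
    obtain ⟨g, -, hga, hgb, hgc⟩ := hG3 a b c₀ a b z hab (Ne.symm hc₀b) (Ne.symm hc₀a) hab
      (Ne.symm hzb) (Ne.symm hza)
    have hginva : g⁻¹ • a = a := by rw [inv_smul_eq_iff, hga]
    have hginvb : g⁻¹ • b = b := by rw [inv_smul_eq_iff, hgb]
    have hginvz : g⁻¹ • z = c₀ := by rw [inv_smul_eq_iff, hgc]
    refine ⟨g * t ^ u * g⁻¹, hNn.conj_mem _ ht'N g, ?_, ?_, ?_, ?_⟩
    · rw [mul_smul, mul_smul, hginva, ht'swap.1, hgb]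
    · rw [mul_smul, mul_smul, hginvb, ht'swap.2, hga]
    · rw [mul_smul, mul_smul, hginvz, hc₀, hgc]
    · rw [conj_pow, ht'2, mul_one, mul_inv_cancel]
  -- such an element has only one fixed point
  have A5 : ∀ τ ∈ N, τ • a = b → (∃ j : ℕ, τ ^ 2 ^ j = 1) → ∀ z z' : Ω, τ • z = z → τ • z' = z' →
      z = z' := by
    intro τ hτN hτa hτ2 z z' hz hz'
    by_contra hzz
    have := A1 z z' hzz τ hτN hz hz' hτ2 a
    rw [hτa] at this
    exact hab this.symm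
  obtain ⟨τ, hτN, hτa, hτb, hτy, hτ2⟩ := A4 y hya hyb
  obtain ⟨τ', hτ'N, hτ'a, hτ'b, hτ'y, hτ'2⟩ := A4 y' hy'a hy'b
  -- squares act trivially
  have hsq : ∀ σ ∈ N, σ • a = b → σ • b = a → σ ^ 2 ^ s = 1 → ∀ z : Ω, σ • σ • z = z := by
    intro σ hσN hσa hσb hσ2 z
    have hmem : σ * σ ∈ S2 N a b := by
      rw [mem_S2]
      refine ⟨N.mul_mem hσN hσN, ?_, ?_⟩
      · rw [mul_smul, hσa, hσb]
      · rw [mul_smul, hσb, hσa]
    have h2 : (σ * σ) ^ 2 ^ s = 1 := by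
      rw [← pow_two, ← pow_mul, mul_comm, pow_mul, hσ2, one_pow]
    have := hA _ hmem ⟨s, h2⟩ z
    rw [mul_smul] at this
    exact this
  -- the product
  have hkmem : τ * τ' ∈ S2 N a b := by
    rw [mem_S2]
    refine ⟨N.mul_mem hτN hτ'N, ?_, ?_⟩
    · rw [mul_smul, hτ'a, hτb]
    · rw [mul_smul, hτ'b, hτa]
  obtain ⟨s', u', hu', hsu'⟩ := Nat.exists_eq_two_pow_mul_odd (orderOf_pos (τ * τ')).ne'
  obtain ⟨v, hv⟩ := hu'
  have hku : ∀ z : Ω, ((τ * τ') ^ u') • z = z := by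
    apply hA _ ((S2 N a b).pow_mem hkmem u') ⟨s', ?_⟩
    rw [← pow_mul, mul_comm, ← hsu']
    exact pow_orderOf_eq_one _
  -- pass to permutations
  have e1 : toPermHom G Ω τ * toPermHom G Ω τ = 1 := by
    ext z
    simp only [Equiv.Perm.coe_mul, Function.comp_apply, toPermHom_apply, toPerm_apply,
      Equiv.Perm.coe_one, id_eq]
    exact hsq τ hτN hτa hτb hτ2 z
  have e2 : toPermHom G Ω τ' * toPermHom G Ω τ' = 1 := by
    ext z
    simp only [Equiv.Perm.coe_mul, Function.comp_apply, toPermHom_apply, toPerm_apply,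
      Equiv.Perm.coe_one, id_eq]
    exact hsq τ' hτ'N hτ'a hτ'b hτ'2 z
  have e3 : (toPermHom G Ω τ * toPermHom G Ω τ') ^ (2 * v + 1) = 1 := by
    rw [← map_mul, ← map_pow, ← hv]
    ext z
    simp only [toPermHom_apply, toPerm_apply, Equiv.Perm.coe_one, id_eq]
    exact hku z
  have e4 := invol_conj e1 e2 e3
  rw [← map_mul, ← map_pow, ← map_inv, ← map_mul, ← map_mul] at e4
  -- `τ'` fixes `w⁻¹ y`
  have e5 : τ' • (((τ * τ') ^ (v + 1))⁻¹ • y) = ((τ * τ') ^ (v + 1))⁻¹ • y := by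
    have := congrArg (fun σ : Equiv.Perm Ω => σ (((τ * τ') ^ (v + 1))⁻¹ • y)) e4
    simp only [toPermHom_apply, toPerm_apply] at this
    rw [this, mul_smul, mul_smul, smul_inv_smul, hτy]
  have e6 := A5 τ' hτ'N hτ'a ⟨s, hτ'2⟩ _ _ e5 hτ'y
  exact ⟨((τ * τ') ^ (v + 1))⁻¹, (S2 N a b).inv_mem ((S2 N a b).pow_mem hkmem _), e6⟩

end Cfsg.Agent.Lib.H4.Wagner
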