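import Mathlib
import Cfsg.Agent.Lib.H4.Wagner.CaseA

/-!
# Wagner's theorem: the induction
-/

set_option autoImplicit false
set_option linter.unusedSectionVars false

namespace Cfsg.Agent.Lib.H4.Wagner

open MulAction

universe u v

section basics

variable {G : Type v} [Group G] {Ω : Type u} [MulAction G Ω]

/-- the three point stabilizer in a subgroup -/
def S3 (N : Subgroup G) (a b c : Ω) : Subgroup G :=
  N ⊓ (stabilizer G a ⊓ stabilizer G b ⊓ stabilizer G c)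

theorem mem_S3 {N : Subgroup G} {a b c : Ω} {x : G} :
    x ∈ S3 N a b c ↔ x ∈ N ∧ x • a = a ∧ x • b = b ∧ x • c = c := by
  rw [S3, Subgroup.mem_inf, Subgroup.mem_inf, Subgroup.mem_inf, mem_stabilizer_iff,
    mem_stabilizer_iff, mem_stabilizer_iff, and_assoc]

theorem S3_le_S2 (N : Subgroup G) (a b c : Ω) : S3 N a b c ≤ S2 N a b := by
  intro x hx
  rw [mem_S3] at hx
  rw [mem_S2]
  exact ⟨hx.1, hx.2.1, hx.2.2.1⟩

/-- the conjugate of a subgroup -/
def cj (g : G) (P : Subgroup G) : Subgroup G := P.map (MulAut.conj g).toMonoidHom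

theorem mem_cj {g : G} {P : Subgroup G} {y : G} : y ∈ cj g P ↔ g⁻¹ * y * g ∈ P := by
  rw [cj, Subgroup.mem_map]
  constructor
  · rintro ⟨x, hx, rfl⟩
    simp only [MulEquiv.coe_toMonoidHom, MulAut.conj_apply]
    have : g⁻¹ * (g * x * g⁻¹) * g = x := by group
    rw [this]
    exact hx
  · intro h
    refine ⟨g⁻¹ * y * g, h, ?_⟩
    simp only [MulEquiv.coe_toMonoidHom, MulAut.conj_apply]
    group

theorem conj_mem_cj {g : G} {P : Subgroup G} {x : G} (hx : x ∈ P) : g * x * g⁻¹ ∈ cj g P := by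
  rw [mem_cj]
  have : g⁻¹ * (g * x * g⁻¹) * g = x := by group
  rw [this]
  exact hx

theorem card_cj (g : G) (P : Subgroup G) : Nat.card (cj g P) = Nat.card P :=
  Nat.card_congr (P.equivMapOfInjective _ (MulAut.conj g).injective).symm.toEquiv

theorem card_S2_conj (N : Subgroup G) [hN : N.Normal] (g : G) (a b : Ω) :
    Nat.card (S2 N (g • a) (g • b)) = Nat.card (S2 N a b) := by
  apply Nat.card_congr
  refine Equiv.subtypeEquiv (MulAut.conj g⁻¹).toEquiv (fun x => ?_)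
  simp only [MulEquiv.toEquiv_eq_coe, EquivLike.coe_coe, MulAut.conj_apply, inv_inv]
  rw [mem_S2, mem_S2]
  constructor
  · rintro ⟨h1, h2, h3⟩
    refine ⟨?_, ?_, ?_⟩
    · have := hN.conj_mem x h1 g⁻¹
      rwa [inv_inv] at this
    · rw [mul_smul, mul_smul, h2, inv_smul_smul]
    · rw [mul_smul, mul_smul, h3, inv_smul_smul]
  · rintro ⟨h1, h2, h3⟩
    refine ⟨?_, ?_, ?_⟩
    · have := hN.conj_mem _ h1 g
      have e : g * (g⁻¹ * x * g) * g⁻¹ = x := by group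
      rwa [e] at this
    · rw [mul_smul, mul_smul] at h2
      have := congrArg (g • ·) h2
      simp only [smul_inv_smul] at this
      exact this
    · rw [mul_smul, mul_smul] at h3
      have := congrArg (g • ·) h3
      simp only [smul_inv_smul] at this
      exact this


theorem fact_sandwich {p : ℕ} (hp : p.Prime) {m k : ℕ} (hk : k ≠ 0)
    (h1 : p ^ k.factorization p ∣ m) (h2 : m ∣ k) : m.factorization p = k.factorization p := by
  have hm : m ≠ 0 := by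
    rintro rfl
    exact hk (Nat.eq_zero_of_zero_dvd h2)
  apply le_antisymm
  · exact (Nat.factorization_le_iff_dvd hm hk).2 h2 p
  · exact (hp.pow_dvd_iff_le_factorization hm).1 h1

section fin

variable [Finite G] {p : ℕ} [Fact p.Prime]

/-- the Frattini type argument -/
theorem exists_mul_mem_normalizer (S P : Subgroup G) (g : G) (hP : P ≤ S) (hQ : cj g P ≤ S)
    (hc : Nat.card P = p ^ (Nat.card S).factorization p) :
    ∃ k ∈ S, k * g ∈ Subgroup.normalizer (P : Set G) := by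
  obtain ⟨k, hkS, hk⟩ := sylow_conj (p := p) S P (cj g P) hP hQ hc (by rw [card_cj, hc])
  refine ⟨k, hkS, ?_⟩
  rw [Subgroup.mem_normalizer_iff]
  intro x
  constructor
  · intro hx
    have h1 := (hk (g * x * g⁻¹)).1 (conj_mem_cj hx)
    have e : k * g * x * (k * g)⁻¹ = k * (g * x * g⁻¹) * k⁻¹ := by group
    rw [e]
    exact h1
  · intro hx
    have e : k * g * x * (k * g)⁻¹ = k * (g * x * g⁻¹) * k⁻¹ := by group
    rw [e] at hx
    have h1 := (hk (g * x * g⁻¹)).2 hx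
    rw [mem_cj] at h1
    have e2 : g⁻¹ * (g * x * g⁻¹) * g = x := by group
    rwa [e2] at h1

end fin

/-- the normalizer preserves the fixed points -/
theorem fixed_smul_mem {P : Subgroup G} {g : G} (hg : g ∈ Subgroup.normalizer (P : Set G)) {y : Ω}
    (hy : y ∈ fixedPoints ↥P Ω) : g • y ∈ fixedPoints ↥P Ω := by
  intro x
  have h1 : g⁻¹ * (x : G) * g ∈ P := (Subgroup.mem_normalizer_iff''.1 hg x).1 x.2
  have h2 := hy ⟨_, h1⟩
  rw [Subgroup.smul_def] at h2 ⊢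
  simp only at h2
  rw [mul_smul, mul_smul] at h2
  have := congrArg (g • ·) h2
  simp only [smul_inv_smul] at this
  exact this

/-- the action of the normalizer on the fixed points -/
@[reducible] def normAct (P : Subgroup G) :
    MulAction ↥(Subgroup.normalizer (P : Set G)) ↥(fixedPoints ↥P Ω) where
  smul g y := ⟨(g : G) • (y : Ω), fixed_smul_mem g.2 y.2⟩
  one_smul y := Subtype.ext (one_smul G (y : Ω))
  mul_smul g h y := Subtype.ext (mul_smul (g : G) (h : G) (y : Ω))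


theorem conj_fix {g y : G} {z : Ω} (h : (g⁻¹ * y * g) • z = z) : y • (g • z) = g • z := by
  rw [mul_smul, mul_smul] at h
  have := congrArg (g • ·) h
  simpa only [smul_inv_smul] using this

theorem cj_le_S2 (N : Subgroup G) [hN : N.Normal] {P : Subgroup G} {g : G} {a b : Ω}
    (hP : P ≤ S2 N a b) : cj g P ≤ S2 N (g • a) (g • b) := by
  intro x hx
  rw [mem_cj] at hx
  have hx' := mem_S2.1 (hP hx)
  rw [mem_S2]
  refine ⟨?_, conj_fix hx'.2.1, conj_fix hx'.2.2⟩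
  have := hN.conj_mem _ hx'.1 g
  have e : g * (g⁻¹ * x * g) * g⁻¹ = x := by group
  rwa [e] at this

theorem cj_le_S3 (N : Subgroup G) [hN : N.Normal] {P : Subgroup G} {g : G} {a b c : Ω}
    (hP : P ≤ S3 N a b c) : cj g P ≤ S3 N (g • a) (g • b) (g • c) := by
  intro x hx
  rw [mem_cj] at hx
  have hx' := mem_S3.1 (hP hx)
  rw [mem_S3]
  refine ⟨?_, conj_fix hx'.2.1, conj_fix hx'.2.2.1, conj_fix hx'.2.2.2⟩
  have := hN.conj_mem _ hx'.1 g
  have e : g * (g⁻¹ * x * g) * g⁻¹ = x := by group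
  rwa [e] at this

end basics


section main

/-- Wagner's theorem, abstract form, by induction on the degree -/
theorem wagner_aux : ∀ (n : ℕ) (Ω : Type u) [Finite Ω] (G : Type v) [Group G] [Finite G]
    [MulAction G Ω] (N : Subgroup G) [N.Normal], Nat.card Ω = n → Odd n → 5 ≤ n →
    T3 (⊤ : Subgroup G) Ω → T2 N Ω → T3 N Ω := by
  intro n
  induction n using Nat.strong_induction_on with
  | _ n ih =>
  intro Ω _ G _ _ _ N hNn hcard hodd h5 hG3 hN2
  classical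
  haveI : Fact (Nat.Prime 2) := ⟨Nat.prime_two⟩
  suffices hK : ∀ a b : Ω, a ≠ b → ∀ y y' : Ω, y ≠ a → y ≠ b → y' ≠ a → y' ≠ b →
      ∃ k ∈ S2 N a b, k • y = y' by
    intro a b c a' b' c' hab hbc hac hab' hbc' hac'
    obtain ⟨g, hgN, hga, hgb⟩ := hN2 a b a' b' hab hab'
    have h1 : g • c ≠ a' := by
      rw [← hga]
      intro h
      exact hac (smul_left_cancel g h).symm
    have h2 : g • c ≠ b' := by
      rw [← hgb]
      intro h
      exact hbc (smul_left_cancel g h).symm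
    obtain ⟨k, hk, hkc⟩ := hK a' b' hab' (g • c) c' h1 h2 (Ne.symm hac') (Ne.symm hbc')
    rw [mem_S2] at hk
    refine ⟨k * g, N.mul_mem hk.1 hgN, ?_, ?_, ?_⟩
    · rw [mul_smul, hga, hk.2.1]
    · rw [mul_smul, hgb, hk.2.2]
    · rw [mul_smul, hkc]
  intro a b hab y y' hya hyb hy'a hy'b
  by_cases hA : ∀ x ∈ S2 N a b, (∃ j : ℕ, x ^ 2 ^ j = 1) → ∀ z : Ω, x • z = z
  · haveI := Fintype.ofFinite Ω
    refine caseA N ?_ hG3 hN2 hab hA hya hyb hy'a hy'b
    rw [← Nat.card_eq_fintype_card, hcard]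
    exact hodd
  push Not at hA
  obtain ⟨x₀, hx₀K, ⟨j, hj⟩, z₀, hz₀⟩ := hA
  obtain ⟨P, hPK, hx₀P, hcP⟩ := exists_sylow_mem (p := 2) (S2 N a b) hx₀K hj
  -- the fixed points
  have hPfix : ∀ x ∈ P, ∀ z ∈ fixedPoints ↥P Ω, x • z = z := fun x hx z hz => hz ⟨x, hx⟩
  have haF : a ∈ fixedPoints ↥P Ω := by
    intro x
    rw [Subgroup.smul_def]
    exact (mem_S2.1 (hPK x.2)).2.1
  have hbF : b ∈ fixedPoints ↥P Ω := by
    intro x
    rw [Subgroup.smul_def]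
    exact (mem_S2.1 (hPK x.2)).2.2
  have hz₀F : z₀ ∉ fixedPoints ↥P Ω := fun h => hz₀ (h ⟨x₀, hx₀P⟩)
  have hPg : IsPGroup 2 ↥P := IsPGroup.of_card hcP
  have hFodd : Odd (Nat.card ↥(fixedPoints ↥P Ω)) := by
    have h1 := hPg.card_modEq_card_fixedPoints (α := Ω)
    rw [hcard] at h1
    rw [Nat.odd_iff] at hodd ⊢
    rw [← h1]
    exact hodd
  -- a third fixed point
  obtain ⟨c₀, hc₀F, hc₀a, hc₀b⟩ : ∃ c₀ ∈ fixedPoints ↥P Ω, c₀ ≠ a ∧ c₀ ≠ b := by
    by_contra hcon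
    push Not at hcon
    have hF : fixedPoints ↥P Ω = {a, b} := by
      ext z
      constructor
      · intro hz
        by_contra hz'
        simp only [Set.mem_insert_iff, Set.mem_singleton_iff, not_or] at hz'
        exact hz'.2 (hcon z hz hz'.1)
      · rintro (rfl | rfl)
        · exact haF
        · exact hbF
    have : Nat.card ↥(fixedPoints ↥P Ω) = 2 := by
      rw [hF, _root_.Nat.card_coe_set_eq, Set.ncard_pair hab]
    rw [this] at hFodd
    exact absurd hFodd (by decide)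
  -- every orbit meets the fixed points
  have hmeet : ∀ y : Ω, y ≠ a → y ≠ b → ∃ k ∈ S2 N a b, k • y ∈ fixedPoints ↥P Ω := by
    intro y hya hyb
    obtain ⟨g, -, hga, hgb, hgc⟩ := hG3 a b c₀ a b y hab (Ne.symm hc₀b) (Ne.symm hc₀a) hab
      (Ne.symm hyb) (Ne.symm hya)
    have hQ := cj_le_S2 N (g := g) hPK
    rw [hga, hgb] at hQ
    obtain ⟨k, hkS, hk⟩ := exists_mul_mem_normalizer (p := 2) (S2 N a b) P g hPK hQ hcP
    refine ⟨k, hkS, ?_⟩
    have := fixed_smul_mem hk hc₀F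
    rwa [mul_smul, hgc] at this
  -- the normalizer is triply transitive on the fixed points
  have W2 : ∀ c₁ ∈ fixedPoints ↥P Ω, c₁ ≠ a → c₁ ≠ b → ∀ a' b' c' : Ω,
      a' ∈ fixedPoints ↥P Ω → b' ∈ fixedPoints ↥P Ω → c' ∈ fixedPoints ↥P Ω →
      a' ≠ b' → b' ≠ c' → a' ≠ c' →
      ∃ g ∈ Subgroup.normalizer (P : Set G), g • a = a' ∧ g • b = b' ∧ g • c₁ = c' := by
    intro c₁ hc₁F hc₁a hc₁b a' b' c' ha' hb' hc' hab' hbc' hac'
    obtain ⟨g, -, hga, hgb, hgc⟩ := hG3 a b c₁ a' b' c' hab (Ne.symm hc₁b) (Ne.symm hc₁a)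
      hab' hbc' hac'
    have hP3 : P ≤ S3 N a b c₁ := fun x hx => mem_S3.2 ⟨(mem_S2.1 (hPK hx)).1,
      (mem_S2.1 (hPK hx)).2.1, (mem_S2.1 (hPK hx)).2.2, hPfix x hx c₁ hc₁F⟩
    have hQ := cj_le_S3 N (g := g) hP3
    rw [hga, hgb, hgc] at hQ
    have hP3' : P ≤ S3 N a' b' c' := fun x hx => mem_S3.2 ⟨(mem_S2.1 (hPK hx)).1,
      hPfix x hx a' ha', hPfix x hx b' hb', hPfix x hx c' hc'⟩
    have hcard2 : Nat.card (S2 N a' b') = Nat.card (S2 N a b) := by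
      rw [← hga, ← hgb]
      exact card_S2_conj N g a b
    have hcS : Nat.card P = 2 ^ (Nat.card (S3 N a' b' c')).factorization 2 := by
      rw [hcP]
      congr 1
      symm
      apply fact_sandwich Nat.prime_two Nat.card_pos.ne'
      · rw [← hcP]
        exact Subgroup.card_dvd_of_le hP3'
      · rw [← hcard2]
        exact Subgroup.card_dvd_of_le (S3_le_S2 N a' b' c')
    obtain ⟨k, hkS, hk⟩ := exists_mul_mem_normalizer (p := 2) (S3 N a' b' c') P g hP3' hQ hcS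
    rw [mem_S3] at hkS
    refine ⟨k * g, hk, ?_, ?_, ?_⟩
    · rw [mul_smul, hga, hkS.2.1]
    · rw [mul_smul, hgb, hkS.2.2.1]
    · rw [mul_smul, hgc, hkS.2.2.2]
  -- the normalizer in `N` is doubly transitive on the fixed points
  have W1 : ∀ a' b' : Ω, a' ∈ fixedPoints ↥P Ω → b' ∈ fixedPoints ↥P Ω → a' ≠ b' →
      ∃ g ∈ Subgroup.normalizer (P : Set G), g ∈ N ∧ g • a = a' ∧ g • b = b' := by
    intro a' b' ha' hb' hab'
    obtain ⟨g, hgN, hga, hgb⟩ := hN2 a b a' b' hab hab'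
    have hQ := cj_le_S2 N (g := g) hPK
    rw [hga, hgb] at hQ
    have hP2' : P ≤ S2 N a' b' := fun x hx => mem_S2.2 ⟨(mem_S2.1 (hPK hx)).1,
      hPfix x hx a' ha', hPfix x hx b' hb'⟩
    have hcard2 : Nat.card (S2 N a' b') = Nat.card (S2 N a b) := by
      rw [← hga, ← hgb]
      exact card_S2_conj N g a b
    have hcS : Nat.card P = 2 ^ (Nat.card (S2 N a' b')).factorization 2 := by
      rw [hcP, hcard2]
    obtain ⟨k, hkS, hk⟩ := exists_mul_mem_normalizer (p := 2) (S2 N a' b') P g hP2' hQ hcS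
    rw [mem_S2] at hkS
    refine ⟨k * g, hk, N.mul_mem hkS.1 hgN, ?_, ?_⟩
    · rw [mul_smul, hga, hkS.2.1]
    · rw [mul_smul, hgb, hkS.2.2]
  obtain ⟨k₁, hk₁, hc₁F⟩ := hmeet y hya hyb
  obtain ⟨k₂, hk₂, hc₂F⟩ := hmeet y' hy'a hy'b
  have hk₁' := mem_S2.1 hk₁
  have hk₂' := mem_S2.1 hk₂
  have hc₁a : k₁ • y ≠ a := by
    intro h
    exact hya (smul_left_cancel k₁ (h.trans hk₁'.2.1.symm))
  have hc₁b : k₁ • y ≠ b := by
    intro h
    exact hyb (smul_left_cancel k₁ (h.trans hk₁'.2.2.symm))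
  have hc₂a : k₂ • y' ≠ a := by
    intro h
    exact hy'a (smul_left_cancel k₂ (h.trans hk₂'.2.1.symm))
  have hc₂b : k₂ • y' ≠ b := by
    intro h
    exact hy'b (smul_left_cancel k₂ (h.trans hk₂'.2.2.symm))
  suffices hfin : ∃ h ∈ N, h • a = a ∧ h • b = b ∧ h • (k₁ • y) = k₂ • y' by
    obtain ⟨h, hhN, hha, hhb, hhc⟩ := hfin
    refine ⟨k₂⁻¹ * h * k₁, ?_, ?_⟩
    · exact (S2 N a b).mul_mem ((S2 N a b).mul_mem ((S2 N a b).inv_mem hk₂)
        (mem_S2.2 ⟨hhN, hha, hhb⟩)) hk₁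
    · rw [mul_smul, mul_smul, hhc, inv_smul_smul]
  by_cases hcc : k₁ • y = k₂ • y'
  · exact ⟨1, N.one_mem, one_smul _ _, one_smul _ _, by rw [one_smul, hcc]⟩
  -- now there are at least five fixed points
  have h4F : 4 ≤ Nat.card ↥(fixedPoints ↥P Ω) := by
    rw [_root_.Nat.card_coe_set_eq]
    have hsub : ({a, b, k₁ • y, k₂ • y'} : Set Ω) ⊆ fixedPoints ↥P Ω := by
      rintro z (rfl | rfl | rfl | rfl)
      · exact haF
      · exact hbF
      · exact hc₁F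
      · exact hc₂F
    have h4 : ({a, b, k₁ • y, k₂ • y'} : Set Ω).ncard = 4 := by
      rw [Set.ncard_insert_of_notMem, Set.ncard_insert_of_notMem, Set.ncard_pair hcc]
      · simp only [Set.mem_insert_iff, Set.mem_singleton_iff, not_or]
        exact ⟨Ne.symm hc₁b, Ne.symm hc₂b⟩
      · simp only [Set.mem_insert_iff, Set.mem_singleton_iff, not_or]
        exact ⟨hab, Ne.symm hc₁a, Ne.symm hc₂a⟩
    rw [← h4]
    exact Set.ncard_le_ncard hsub
  have h5F : 5 ≤ Nat.card ↥(fixedPoints ↥P Ω) := by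
    obtain ⟨m, hm⟩ := hFodd
    omega
  have hltF : Nat.card ↥(fixedPoints ↥P Ω) < n := by
    rw [_root_.Nat.card_coe_set_eq, ← hcard]
    apply Set.ncard_lt_card
    intro h
    apply hz₀F
    rw [h]
    exact Set.mem_univ _
  letI := normAct (Ω := Ω) P
  have hT3 : T3 (⊤ : Subgroup ↥(Subgroup.normalizer (P : Set G))) ↥(fixedPoints ↥P Ω) := by
    rintro ⟨a₁, ha₁⟩ ⟨b₁, hb₁⟩ ⟨c₁, hc₁⟩ ⟨a₂, ha₂⟩ ⟨b₂, hb₂⟩ ⟨c₂, hc₂⟩ h1 h2 h3 h4 h5 h6
    obtain ⟨g₁, hg₁, e1, e2, e3⟩ := W2 (k₁ • y) hc₁F hc₁a hc₁b a₁ b₁ c₁ ha₁ hb₁ hc₁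
      (fun h => h1 (Subtype.ext h)) (fun h => h2 (Subtype.ext h)) (fun h => h3 (Subtype.ext h))
    obtain ⟨g₂, hg₂, f1, f2, f3⟩ := W2 (k₁ • y) hc₁F hc₁a hc₁b a₂ b₂ c₂ ha₂ hb₂ hc₂
      (fun h => h4 (Subtype.ext h)) (fun h => h5 (Subtype.ext h)) (fun h => h6 (Subtype.ext h))
    refine ⟨⟨g₂, hg₂⟩ * ⟨g₁, hg₁⟩⁻¹, Subgroup.mem_top _, ?_, ?_, ?_⟩
    · apply Subtype.ext
      show (g₂ * g₁⁻¹) • a₁ = a₂
      rw [mul_smul, ← e1, inv_smul_smul, f1]
    · apply Subtype.ext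
      show (g₂ * g₁⁻¹) • b₁ = b₂
      rw [mul_smul, ← e2, inv_smul_smul, f2]
    · apply Subtype.ext
      show (g₂ * g₁⁻¹) • c₁ = c₂
      rw [mul_smul, ← e3, inv_smul_smul, f3]
  have hT2 : T2 (N.subgroupOf (Subgroup.normalizer (P : Set G))) ↥(fixedPoints ↥P Ω) := by
    rintro ⟨a₁, ha₁⟩ ⟨b₁, hb₁⟩ ⟨a₂, ha₂⟩ ⟨b₂, hb₂⟩ h1 h2
    obtain ⟨g₁, hg₁, hg₁N, e1, e2⟩ := W1 a₁ b₁ ha₁ hb₁ (fun h => h1 (Subtype.ext h))
    obtain ⟨g₂, hg₂, hg₂N, f1, f2⟩ := W1 a₂ b₂ ha₂ hb₂ (fun h => h2 (Subtype.ext h))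
    refine ⟨⟨g₂, hg₂⟩ * ⟨g₁, hg₁⟩⁻¹, ?_, ?_, ?_⟩
    · rw [Subgroup.mem_subgroupOf]
      exact N.mul_mem hg₂N (N.inv_mem hg₁N)
    · apply Subtype.ext
      show (g₂ * g₁⁻¹) • a₁ = a₂
      rw [mul_smul, ← e1, inv_smul_smul, f1]
    · apply Subtype.ext
      show (g₂ * g₁⁻¹) • b₁ = b₂
      rw [mul_smul, ← e2, inv_smul_smul, f2]
  have hres := ih (Nat.card ↥(fixedPoints ↥P Ω)) hltF ↥(fixedPoints ↥P Ω)
    ↥(Subgroup.normalizer (P : Set G)) (N.subgroupOf (Subgroup.normalizer (P : Set G))) rfl hFodd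
    h5F hT3 hT2
  obtain ⟨h, hhN, hha, hhb, hhc⟩ := hres ⟨a, haF⟩ ⟨b, hbF⟩ ⟨k₁ • y, hc₁F⟩ ⟨a, haF⟩ ⟨b, hbF⟩
    ⟨k₂ • y', hc₂F⟩ (fun h => hab (congrArg Subtype.val h))
    (fun h => hc₁b (congrArg Subtype.val h).symm) (fun h => hc₁a (congrArg Subtype.val h).symm)
    (fun h => hab (congrArg Subtype.val h))
    (fun h => hc₂b (congrArg Subtype.val h).symm) (fun h => hc₂a (congrArg Subtype.val h).symm)
  exact ⟨(h : G), Subgroup.mem_subgroupOf.1 hhN, congrArg Subtype.val hha,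
    congrArg Subtype.val hhb, congrArg Subtype.val hhc⟩

end main

end Cfsg.Agent.Lib.H4.Wagner
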