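import Mathlib
import Cfsg.Agent.Lib.H4.Wagner.Main

/-!
# Wagner's theorem: conversions between the elementwise and the Mathlib forms of transitivity
-/

set_option autoImplicit false
set_option linter.unusedSectionVars false

namespace Cfsg.Agent.Lib.H4.Wagner

open MulAction

universe u v

variable {G : Type v} [Group G] {Ω : Type u} [MulAction G Ω]

/-- the embedding of three distinct points -/
def emb3 (a b c : Ω) (hab : a ≠ b) (hbc : b ≠ c) (hac : a ≠ c) : Fin 3 ↪ Ω where
  toFun := ![a, b, c]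
  inj' := by
    intro i j h
    fin_cases i <;> fin_cases j <;> simp_all

/-- the embedding of two distinct points -/
def emb2 (a b : Ω) (hab : a ≠ b) : Fin 2 ↪ Ω where
  toFun := ![a, b]
  inj' := by
    intro i j h
    fin_cases i <;> fin_cases j <;> simp_all

theorem T3_top_of_pretrans (h : IsMultiplyPretransitive G Ω 3) : T3 (⊤ : Subgroup G) Ω := by
  intro a b c a' b' c' hab hbc hac hab' hbc' hac'
  rw [isMultiplyPretransitive_iff] at h
  obtain ⟨g, hg⟩ := h (emb3 a b c hab hbc hac) (emb3 a' b' c' hab' hbc' hac')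
  refine ⟨g, Subgroup.mem_top g, ?_, ?_, ?_⟩
  · exact congrArg (fun f : Fin 3 ↪ Ω => f 0) hg
  · exact congrArg (fun f : Fin 3 ↪ Ω => f 1) hg
  · exact congrArg (fun f : Fin 3 ↪ Ω => f 2) hg

theorem T2_of_pretrans (N : Subgroup G) (h : IsMultiplyPretransitive ↥N Ω 2) : T2 N Ω := by
  intro a b a' b' hab hab'
  rw [isMultiplyPretransitive_iff] at h
  obtain ⟨g, hg⟩ := h (emb2 a b hab) (emb2 a' b' hab')
  refine ⟨(g : G), g.2, ?_, ?_⟩
  · exact congrArg (fun f : Fin 2 ↪ Ω => f 0) hg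
  · exact congrArg (fun f : Fin 2 ↪ Ω => f 1) hg

theorem pretrans_of_T3 (N : Subgroup G) (h : T3 N Ω) : IsMultiplyPretransitive ↥N Ω 3 := by
  rw [isMultiplyPretransitive_iff]
  intro t t'
  have h01 : t 0 ≠ t 1 := t.injective.ne (by decide)
  have h02 : t 0 ≠ t 2 := t.injective.ne (by decide)
  have h12 : t 1 ≠ t 2 := t.injective.ne (by decide)
  have h01' : t' 0 ≠ t' 1 := t'.injective.ne (by decide)
  have h02' : t' 0 ≠ t' 2 := t'.injective.ne (by decide)
  have h12' : t' 1 ≠ t' 2 := t'.injective.ne (by decide)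
  obtain ⟨g, hgN, hg0, hg1, hg2⟩ := h _ _ _ _ _ _ h01 h12 h02 h01' h12' h02'
  refine ⟨⟨g, hgN⟩, ?_⟩
  ext i
  fin_cases i
  · exact hg0
  · exact hg1
  · exact hg2

/-- Wagner's theorem for an abstract group action -/
theorem wagner [Finite G] [Finite Ω] (N : Subgroup G) [N.Normal] (hodd : Odd (Nat.card Ω))
    (h5 : 5 ≤ Nat.card Ω) (hG : IsMultiplyPretransitive G Ω 3)
    (hN : IsMultiplyPretransitive ↥N Ω 2) : IsMultiplyPretransitive ↥N Ω 3 :=
  pretrans_of_T3 N (wagner_aux (Nat.card Ω) Ω G N rfl hodd h5 (T3_top_of_pretrans hG)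
    (T2_of_pretrans N hN))

end Cfsg.Agent.Lib.H4.Wagner
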